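import Groth.Agent.TateGlob.K997.CartAlg
import Groth.Agent.GmDual.K311.FamGL
import Groth.Agent.GmDual.K311.FamRep
import Groth.Agent.SGA3x.K20.HomGrp
import Groth.Prelude.Def_CGrpSh2
import Mathlib.RingTheory.Finiteness.ModuleFinitePresentation
import Mathlib.RingTheory.Flat.EquationalCriterion

/-!
# The Cartier dual of a finite locally free commutative group scheme over an affine base, as sheaves

`exists_dual`: `pts D = dualSh (pts Q)` on the big fppf site, `D` finite locally free.
-/

set_option autoImplicit false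
set_option backward.isDefEq.respectTransparency.types false

universe u

open CategoryTheory CategoryTheory.Limits AlgebraicGeometry Opposite MonoidalCategory CartesianMonoidalCategory
open TensorProduct CGrpSh MonObj Groth.Agent.Books.AffBridge K778.CharDict K311.FamGL K311.Fam

namespace K997.CartSh

variable {k : Type u} [CommRing k]

theorem isAffineHom_gm (S : Scheme.{u}) : IsAffineHom (Red.Gm S).hom := by
  have h1 : IsAffineHom (Red.diag (ULift.{u} ℤ) ℤ).hom :=
    inferInstanceAs (IsAffineHom (Spec.map (CommRingCat.ofHom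
      (algebraMap (ULift.{u} ℤ) (MonoidAlgebra (ULift.{u} ℤ) (Multiplicative ℤ))))))
  exact MorphismProperty.pullback_snd _ _ h1

/-- Affine schemes over an affine base as spectra. -/
theorem exists_algebra (P : Over (Spec (CommRingCat.of k))) [hP : IsAffine P.left] :
    ∃ (C : Type u) (_ : CommRing C) (_ : Algebra k C), Nonempty (SpecOver k C ≅ P) := by
  let B := Γ(P.left, ⊤)
  let φ : CommRingCat.of k ⟶ B := Spec.preimage (P.left.isoSpec.inv ≫ P.hom)
  have hφ : Spec.map φ = P.left.isoSpec.inv ≫ P.hom := Spec.map_preimage _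
  let _ : Algebra k B := φ.hom.toAlgebra
  exact ⟨B, inferInstance, inferInstance, ⟨Over.isoMk P.left.isoSpec.symm hφ.symm⟩⟩

/-- Yoneda for algebras. -/
theorem nonempty_algEquiv_of_nat {C D : Type u} [CommRing C] [Algebra k C] [CommRing D] [Algebra k D]
    (α : ∀ (R : Type u) [CommRing R] [Algebra k R], (C →ₐ[k] R) → (D →ₐ[k] R))
    (hα : ∀ (R : Type u) [CommRing R] [Algebra k R], Function.Bijective (α R))
    (hnat : ∀ (R R' : Type u) [CommRing R] [Algebra k R] [CommRing R'] [Algebra k R'] (h : R →ₐ[k] R')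
      (p : C →ₐ[k] R), α R' (h.comp p) = h.comp (α R p)) : Nonempty (C ≃ₐ[k] D) := by
  obtain ⟨g0, hg0⟩ := (hα D).2 (AlgHom.id k D)
  let f0 : D →ₐ[k] C := α C (AlgHom.id k C)
  have h1 : g0.comp f0 = AlgHom.id k D := by
    rw [← hg0, ← hnat, AlgHom.comp_id]
  have h2 : f0.comp g0 = AlgHom.id k C := by
    apply (hα C).1
    rw [hnat, hg0, AlgHom.comp_id]
  exact ⟨AlgEquiv.ofAlgHom g0 f0 h1 h2⟩

/-- Naturality of the function of a family in the parameter. -/
theorem ug_whiskerLeft {B R R' : Type u} [CommRing B] [Algebra k B] [CommRing R] [Algebra k R]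
    [CommRing R'] [Algebra k R'] (h : R →ₐ[k] R')
    (φ : SpecOver k B ⊗ SpecOver k R ⟶ Red.Gm (Bs k)) :
    ug (SpecOver k B ◁ specMap k h ≫ φ) = Algebra.TensorProduct.map h (AlgHom.id k B) (ug φ) := by
  have h1 : Groth.Agent.Sga3B.Hens.Dict.cmp k B R' ≫ SpecOver k B ◁ specMap k h =
      specMap k (Algebra.TensorProduct.map h (AlgHom.id k B)) ≫ Groth.Agent.Sga3B.Hens.Dict.cmp k B R := by
    rw [Groth.Agent.Sga3B.Hens.Dict.cmp, Groth.Agent.Sga3B.Hens.Dict.cmp, lift_whiskerLeft, comp_lift,
      ← specMap_comp, ← specMap_comp, ← specMap_comp]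
    congr 2
    ext x
    simp
  rw [ug, ← Category.assoc, h1, Category.assoc, gmE_nat]
  rfl

section

variable (B : Type u) [CommRing B] [HopfAlgebra k B] [Module.Finite k B] [Module.Projective k B]
  [Coalgebra.IsCocomm k B]

/-- An affine scheme representing the characters of a finite projective Hopf algebra is the spectrum of the dual. -/
theorem nonempty_algEquiv {C : Type u} [CommRing C] [Algebra k C]
    (υ : SpecOver k B ⊗ SpecOver k C ⟶ Red.Gm (Bs k))
    (h : AutFam.RepresentsHom (SpecOver k B) (Red.Gm (Bs k)) (SpecOver k C) υ) :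
    Nonempty (C ≃ₐ[k] CartDual.D k B) := by
  have hf : ∀ (R : Type u) [CommRing R] [Algebra k R] (p : C →ₐ[k] R),
      AutFam.IsHomFamily (SpecOver k B) (Red.Gm (Bs k)) (SpecOver k B ◁ specMap k p ≫ υ) :=
    fun R _ _ p => isHomFamily_comp _ h.1
  choose α hα using fun (R : Type u) (_ : CommRing R) (_ : Algebra k R) (p : C →ₐ[k] R) =>
    CartAlg.exists_alg k B R (isGroupLike_ug (hf R p))
  refine nonempty_algEquiv_of_nat (k := k) (C := C) (D := CartDual.D k B) (fun R _ _ => α R _ _) ?_ ?_
  · intro R _ _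
    constructor
    · intro p q hpq
      have h1 : ug (SpecOver k B ◁ specMap k p ≫ υ) = ug (SpecOver k B ◁ specMap k q ≫ υ) := by
        apply CartAlg.Φ_injective k B R
        apply LinearMap.ext
        intro x
        rw [← hα, ← hα]
        exact congrArg (fun f : CartDual.D k B →ₐ[k] R => f x) hpq
      have h2 := ug_injective h1
      exact specMap_injective k ((h.2 _ _ (hf R q)).unique h2 rfl)
    · intro f
      obtain ⟨g, hg, hfg⟩ := CartAlg.exists_groupLike k B R f
      obtain ⟨φ, hφ, hug⟩ := exists_family hg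
      obtain ⟨a, ha, -⟩ := h.2 _ φ hφ
      obtain ⟨p, rfl⟩ := (specEquiv k).surjective a
      refine ⟨p, ?_⟩
      apply AlgHom.ext
      intro x
      rw [hα, hfg, ← hug, ← ha]
      rfl
  · intro R R' _ _ _ _ h p
    apply AlgHom.ext
    intro x
    rw [hα, AlgHom.comp_apply, hα, ← CartAlg.Φ_map, ← ug_whiskerLeft, specMap_comp, MonoidalCategory.whiskerLeft_comp,
      Category.assoc]

end

theorem isCommMonObj_of_iso {S : Scheme.{u}} {G H : Over S} [GrpObj G] [IsCommMonObj G] [GrpObj H] (e : H ⟶ G)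
    [Mono e] [IsMonHom e] : IsCommMonObj H where
  mul_comm := by
    rw [← cancel_mono e, Category.assoc, IsMonHom.mul_hom, ← Category.assoc, ← BraidedCategory.braiding_naturality,
      Category.assoc, IsCommMonObj.mul_comm]

/-- Transport of representing objects. -/
theorem represents_transport {S : Scheme.{u}} {Q Q' H A C : Over S} [GrpObj Q] [GrpObj Q'] [GrpObj H]
    (e : Q' ≅ Q) [IsMonHom e.hom] (i : C ≅ A) {υ : Q ⊗ A ⟶ H}
    (h : AutFam.RepresentsHom Q H A υ) : AutFam.RepresentsHom Q' H C ((e.hom ⊗ₘ i.hom) ≫ υ) := by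
  have he : IsMonHom e.inv := inferInstance
  have h0 : (e.hom ⊗ₘ i.hom) ≫ υ = e.hom ▷ C ≫ Q ◁ i.hom ≫ υ := by
    rw [MonoidalCategory.tensorHom_def, Category.assoc]
  have h1 : AutFam.IsHomFamily Q' H (e.hom ▷ C ≫ Q ◁ i.hom ≫ υ) :=
    isHomFamily_whiskerRight e.hom (isHomFamily_comp i.hom h.1)
  refine ⟨by rw [h0]; exact h1, fun T φ hφ => ?_⟩
  obtain ⟨a, ha, hau⟩ := h.2 T (e.inv ▷ T ≫ φ) (isHomFamily_whiskerRight e.inv hφ)
  have key : ∀ b : T ⟶ C, Q' ◁ b ≫ (e.hom ⊗ₘ i.hom) ≫ υ = e.hom ▷ T ≫ Q ◁ (b ≫ i.hom) ≫ υ := fun b => by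
    rw [h0, MonoidalCategory.whiskerLeft_comp, Category.assoc, MonoidalCategory.whisker_exchange_assoc]
  refine ⟨a ≫ i.inv, ?_, fun b hb => ?_⟩
  · change Q' ◁ (a ≫ i.inv) ≫ (e.hom ⊗ₘ i.hom) ≫ υ = φ
    rw [key, Category.assoc, i.inv_hom_id, Category.comp_id]
    have ha' : Q ◁ a ≫ υ = e.inv ▷ T ≫ φ := ha
    rw [ha', ← MonoidalCategory.comp_whiskerRight_assoc, e.hom_inv_id, MonoidalCategory.id_whiskerRight,
      Category.id_comp]
  · have hb' : Q' ◁ b ≫ (e.hom ⊗ₘ i.hom) ≫ υ = φ := hb
    rw [key] at hb'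
    rw [Iso.eq_comp_inv]
    apply hau
    rw [← hb', ← MonoidalCategory.comp_whiskerRight_assoc, e.inv_hom_id, MonoidalCategory.id_whiskerRight,
      Category.id_comp]

theorem exists_dual {R : Type u} [CommRing R] (Q : Over (Spec (CommRingCat.of R))) [GrpObj Q] [IsCommMonObj Q]
    [IsFinite Q.hom] [Flat Q.hom] [LocallyOfFinitePresentation Q.hom] :
    ∃ (D : Over (Spec (CommRingCat.of R))) (_ : GrpObj D) (_ : IsCommMonObj D),
      IsFinite D.hom ∧ Flat D.hom ∧ LocallyOfFinitePresentation D.hom ∧
      Nonempty (CGrpSh.pts Scheme.fppfPrecoverage D ≅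
        CGrpSh2.dualSh Scheme.fppfPrecoverage (CGrpSh.pts Scheme.fppfPrecoverage Q)) := by
  have hGma : IsAffineHom (Red.Gm (Spec (CommRingCat.of R))).hom := isAffineHom_gm _
  obtain ⟨A, υ, hA, hAa, -, -⟩ := K20.HomGrp.exists_representsHom Q (Red.Gm (Spec (CommRingCat.of R)))
  obtain ⟨gA, cA, θ, -⟩ := K311.FamRep.exists_grp Scheme.fppfPrecoverage υ hA
  have hAaff : IsAffine A.left := isAffine_of_isAffineHom A.hom
  obtain ⟨C, _, _, ⟨i⟩⟩ := exists_algebra A
  have haff : IsAffine Q.left := isAffine_of_isAffineHom Q.hom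
  obtain ⟨B, _, _, e, he⟩ := exists_hopf R Q
  have hi : IsMonHom e.symm.hom := inferInstanceAs (IsMonHom e.inv)
  have hi' : IsMonHom e.inv := hi
  have hcomm : IsCommMonObj (SpecOver R B) := isCommMonObj_of_iso e.inv
  have hBc : Coalgebra.IsCocomm R B := isCocomm_of_isCommMonObj
  have hBf : Module.Finite R B := by
    have h1 : IsFinite (SpecOver R B).hom := by
      rw [← Over.w e.inv]
      infer_instance
    have h2 : IsFinite (Spec.map (CommRingCat.ofHom (algebraMap R B))) := h1
    rw [IsFinite.SpecMap_iff] at h2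
    exact RingHom.finite_algebraMap.1 h2
  have hBfl : Module.Flat R B := by
    have h1 : Flat (SpecOver R B).hom := by
      rw [← Over.w e.inv]
      infer_instance
    have h2 : Flat (Spec.map (CommRingCat.ofHom (algebraMap R B))) := h1
    rw [Flat.SpecMap_iff] at h2
    exact RingHom.flat_algebraMap_iff.1 h2
  have hBfp : Algebra.FinitePresentation R B := by
    have h1 : LocallyOfFinitePresentation (SpecOver R B).hom := by
      rw [← Over.w e.inv]
      infer_instance
    have h2 : LocallyOfFinitePresentation (Spec.map (CommRingCat.ofHom (algebraMap R B))) := h1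
    rw [LocallyOfFinitePresentation.SpecMap_iff] at h2
    exact RingHom.finitePresentation_algebraMap.1 h2
  have hBfp' : Module.FinitePresentation R B := Module.FinitePresentation.of_finite_of_finitePresentation R B
  have hBp : Module.Projective R B := Module.Flat.projective_of_finitePresentation
  -- the representing family in terms of `B` and `C`
  have hrep : AutFam.RepresentsHom (SpecOver R B) (Red.Gm (Spec (CommRingCat.of R))) (SpecOver R C)
      ((e.symm.hom ⊗ₘ i.hom) ≫ υ) := represents_transport e.symm i hA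
  obtain ⟨w⟩ := nonempty_algEquiv B _ hrep
  have hCf : Module.Finite R C := Module.Finite.equiv w.symm.toLinearEquiv
  have hCp : Module.Projective R C := Module.Projective.of_equiv w.symm.toLinearEquiv
  have hCfl : Module.Flat R C := inferInstance
  have hCfp' : Module.FinitePresentation R C := Module.finitePresentation_of_projective R C
  have hCfp : Algebra.FinitePresentation R C := .of_finitePresentation R C
  refine ⟨A, gA, cA, ?_, ?_, ?_, ⟨θ⟩⟩
  · have h4 : IsFinite (SpecOver R C).hom := by
      change IsFinite (Spec.map (CommRingCat.ofHom (algebraMap R C)))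
      rw [IsFinite.SpecMap_iff]
      exact RingHom.finite_algebraMap.2 hCf
    rw [← Over.w i.inv]
    infer_instance
  · have h4 : Flat (SpecOver R C).hom := by
      change Flat (Spec.map (CommRingCat.ofHom (algebraMap R C)))
      rw [Flat.SpecMap_iff]
      exact RingHom.flat_algebraMap_iff.2 hCfl
    rw [← Over.w i.inv]
    infer_instance
  · have h4 : LocallyOfFinitePresentation (SpecOver R C).hom := by
      change LocallyOfFinitePresentation (Spec.map (CommRingCat.ofHom (algebraMap R C)))
      rw [LocallyOfFinitePresentation.SpecMap_iff]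
      exact RingHom.finitePresentation_algebraMap.2 hCfp
    rw [← Over.w i.inv]
    infer_instance

end K997.CartSh
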