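import Groth.Prelude.Def_CartDual
import Mathlib.RingTheory.HopfAlgebra.GroupLike
import Mathlib.RingTheory.Finiteness.Projective

/-!
# Group-like elements of `R ⊗ A` are the algebra maps from the dual Hopf algebra to `R`

`A` a finite projective Hopf algebra over a commutative ring `k`, `R` a commutative `k`-algebra.
-/

set_option autoImplicit false

universe u v w

open scoped TensorProduct
open TensorProduct

namespace K997.CartAlg

section

variable (k : Type u) [CommRing k] (A : Type v) [CommRing A] [HopfAlgebra k A] (R : Type w) [CommRing R] [Algebra k R]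

/-- The `R`-linear extension of a linear form. -/
noncomputable def pairR (x : CartDual.D k A) : R ⊗[k] A →ₗ[R] R :=
  (TensorProduct.AlgebraTensorModule.rid k R R).toLinearMap ∘ₗ
    TensorProduct.AlgebraTensorModule.map (LinearMap.id : R →ₗ[R] R) x.ofConv

theorem pairR_tmul (x : CartDual.D k A) (r : R) (a : A) : pairR k A R x (r ⊗ₜ a) = x a • r := rfl

/-- `g` read as a linear map on the dual. -/
noncomputable def Φ (g : R ⊗[k] A) : CartDual.D k A →ₗ[k] R where
  toFun x := pairR k A R x g
  map_add' x y := by
    induction g using TensorProduct.induction_on with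
    | zero => simp
    | add g g' h h' => rw [map_add, h, h', map_add, map_add]; ring
    | tmul r a => rw [pairR_tmul, pairR_tmul, pairR_tmul, ← add_smul]; rfl
  map_smul' c x := by
    induction g using TensorProduct.induction_on with
    | zero => simp
    | add g g' h h' => rw [map_add, h, h', map_add, smul_add]
    | tmul r a =>
      rw [pairR_tmul, pairR_tmul, RingHom.id_apply, smul_smul]; rfl

theorem Φ_apply (g : R ⊗[k] A) (x : CartDual.D k A) : Φ k A R g x = pairR k A R x g := rfl

theorem Φ_tmul (r : R) (a : A) (x : CartDual.D k A) : Φ k A R (r ⊗ₜ a) x = x a • r := rfl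

theorem Φ_add (g g' : R ⊗[k] A) : Φ k A R (g + g') = Φ k A R g + Φ k A R g' := by
  ext x
  rw [LinearMap.add_apply, Φ_apply, Φ_apply, Φ_apply, map_add]

theorem Φ_zero : Φ k A R 0 = 0 := by
  ext x
  rw [LinearMap.zero_apply, Φ_apply, map_zero]

theorem mul'_map_pairR_comul (x y : CartDual.D k A) (g : R ⊗[k] A) :
    LinearMap.mul' R R (TensorProduct.map (pairR k A R x) (pairR k A R y) (Coalgebra.comul (R := R) g)) =
      pairR k A R (x * y) g := by
  induction g using TensorProduct.induction_on with
  | zero => simp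
  | add g g' h h' => simp only [map_add, h, h']
  | tmul r a =>
    rw [TensorProduct.comul_tmul, CommSemiring.comul_apply, pairR_tmul, CartDual.coe_apply,
      LinearMap.convMul_apply]
    generalize Coalgebra.comul (R := k) a = t
    induction t using TensorProduct.induction_on with
    | zero => simp
    | add t t' h h' => simp only [map_add, TensorProduct.tmul_add, h, h', add_smul]
    | tmul b c =>
      rw [TensorProduct.AlgebraTensorModule.tensorTensorTensorComm_tmul, TensorProduct.map_tmul,
        TensorProduct.map_tmul, pairR_tmul, pairR_tmul, LinearMap.mul'_apply, LinearMap.mul'_apply]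
      rw [smul_mul_smul_comm, one_mul]

theorem mul'_map_pairR_tmul (x y : CartDual.D k A) (g : R ⊗[k] A) :
    LinearMap.mul' R R (TensorProduct.map (pairR k A R x) (pairR k A R y) (g ⊗ₜ[R] g)) =
      pairR k A R x g * pairR k A R y g := by
  rw [TensorProduct.map_tmul, LinearMap.mul'_apply]

theorem counit_eq (g : R ⊗[k] A) : Coalgebra.counit (R := R) g = Φ k A R g 1 := by
  induction g using TensorProduct.induction_on with
  | zero => simp [Φ_zero]
  | add g g' h h' => rw [map_add, h, h', Φ_apply, Φ_apply, Φ_apply, map_add]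
  | tmul r a =>
    rw [TensorProduct.counit_tmul, Φ_tmul]
    simp [LinearMap.convOne_def]

/-- Naturality in `R`. -/
theorem Φ_map {R' : Type w} [CommRing R'] [Algebra k R'] (f : R →ₐ[k] R') (g : R ⊗[k] A) (x : CartDual.D k A) :
    Φ k A R' (Algebra.TensorProduct.map f (AlgHom.id k A) g) x = f (Φ k A R g x) := by
  induction g using TensorProduct.induction_on with
  | zero => rw [map_zero, Φ_zero, Φ_zero]; simp
  | add g g' h h' => rw [map_add, Φ_add, Φ_add, LinearMap.add_apply, LinearMap.add_apply, map_add, h, h']
  | tmul r a =>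
    rw [Algebra.TensorProduct.map_tmul, Φ_tmul, Φ_tmul, map_smul]
    rfl

variable [Module.Finite k A] [Module.Projective k A]

theorem exists_dualBasis : ∃ (n : ℕ) (b : Fin n → A) (c : Fin n → CartDual.D k A), ∀ a : A, ∑ i, c i a • b i = a := by
  obtain ⟨n, f, g, -, -, h⟩ := Module.Finite.exists_comp_eq_id_of_projective k A
  refine ⟨n, fun i => f (Pi.single i 1), fun i => WithConv.toConv (LinearMap.proj i ∘ₗ g), fun a => ?_⟩
  have h1 : f (g a) = a := LinearMap.congr_fun h a
  have h2 : g a = ∑ i, g a i • (Pi.single i (1 : k) : Fin n → k) := by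
    ext j
    simp [Finset.sum_apply, Pi.single_apply]
  conv_rhs => rw [← h1, h2, map_sum]
  refine Finset.sum_congr rfl fun i _ => ?_
  rw [map_smul]
  rfl

theorem Φ_injective : Function.Injective (Φ k A R) := by
  obtain ⟨n, b, c, hbc⟩ := exists_dualBasis k A
  have key : ∀ g : R ⊗[k] A, ∑ i, Φ k A R g (c i) ⊗ₜ[k] b i = g := by
    intro g
    induction g using TensorProduct.induction_on with
    | zero => simp [Φ_zero]
    | add g g' h h' =>
      conv_rhs => rw [← h, ← h']
      rw [← Finset.sum_add_distrib]
      refine Finset.sum_congr rfl fun i _ => ?_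
      rw [Φ_add, LinearMap.add_apply, TensorProduct.add_tmul]
    | tmul r a =>
      conv_rhs => rw [← hbc a]
      rw [TensorProduct.tmul_sum]
      refine Finset.sum_congr rfl fun i _ => ?_
      rw [Φ_tmul, TensorProduct.smul_tmul]
  intro g h hgh
  rw [← key g, hgh, key h]

theorem Φ_surjective : Function.Surjective (Φ k A R) := by
  obtain ⟨n, b, c, hbc⟩ := exists_dualBasis k A
  intro f
  refine ⟨∑ i, f (c i) ⊗ₜ b i, ?_⟩
  ext x
  have h1 : ∀ (s : Finset (Fin n)) (r : Fin n → R),
      Φ k A R (∑ i ∈ s, r i ⊗ₜ b i) x = ∑ i ∈ s, x (b i) • r i := by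
    intro s r
    rw [Φ_apply, map_sum]
    rfl
  rw [h1]
  have h2 : x = ∑ i, x (b i) • c i := by
    apply WithConv.ext
    apply LinearMap.ext
    intro a
    rw [WithConv.ofConv_sum, LinearMap.sum_apply]
    conv_lhs => rw [← hbc a, map_sum]
    refine Finset.sum_congr rfl fun i _ => ?_
    rw [map_smul, WithConv.ofConv_smul, LinearMap.smul_apply, smul_eq_mul, smul_eq_mul, mul_comm]
  conv_rhs => rw [h2]
  rw [map_sum]
  simp only [map_smul]

theorem tensorR_ext {z z' : (R ⊗[k] A) ⊗[R] (R ⊗[k] A)}
    (h : ∀ x y : CartDual.D k A, LinearMap.mul' R R (TensorProduct.map (pairR k A R x) (pairR k A R y) z) =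
      LinearMap.mul' R R (TensorProduct.map (pairR k A R x) (pairR k A R y) z')) : z = z' := by
  obtain ⟨n, b, c, hbc⟩ := exists_dualBasis k A
  have key1 : ∀ g : R ⊗[k] A, ∑ i, pairR k A R (c i) g • ((1 : R) ⊗ₜ[k] b i) = g := by
    intro g
    induction g using TensorProduct.induction_on with
    | zero => simp
    | add g g' h h' =>
      conv_rhs => rw [← h, ← h']
      rw [← Finset.sum_add_distrib]
      refine Finset.sum_congr rfl fun i _ => ?_
      rw [map_add, add_smul]
    | tmul r a =>
      conv_rhs => rw [← hbc a]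
      rw [TensorProduct.tmul_sum]
      refine Finset.sum_congr rfl fun i _ => ?_
      rw [pairR_tmul, TensorProduct.smul_tmul', smul_eq_mul, mul_one, TensorProduct.smul_tmul]
  have key : ∀ w : (R ⊗[k] A) ⊗[R] (R ⊗[k] A),
      ∑ i, ∑ j, LinearMap.mul' R R (TensorProduct.map (pairR k A R (c i)) (pairR k A R (c j)) w) •
        (((1 : R) ⊗ₜ[k] b i) ⊗ₜ[R] ((1 : R) ⊗ₜ[k] b j)) = w := by
    intro w
    induction w using TensorProduct.induction_on with
    | zero => simp
    | add g g' h h' =>
      conv_rhs => rw [← h, ← h']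
      rw [← Finset.sum_add_distrib]
      refine Finset.sum_congr rfl fun i _ => ?_
      rw [← Finset.sum_add_distrib]
      refine Finset.sum_congr rfl fun j _ => ?_
      rw [map_add, map_add, add_smul]
    | tmul g h =>
      conv_rhs => rw [← key1 g, ← key1 h]
      rw [TensorProduct.sum_tmul]
      refine Finset.sum_congr rfl fun i _ => ?_
      rw [TensorProduct.tmul_sum]
      refine Finset.sum_congr rfl fun j _ => ?_
      rw [TensorProduct.map_tmul, LinearMap.mul'_apply, TensorProduct.smul_tmul_smul]
  rw [← key z, ← key z']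
  refine Finset.sum_congr rfl fun i _ => Finset.sum_congr rfl fun j _ => ?_
  rw [h]

end

section

variable (k : Type u) [CommRing k] (A : Type v) [CommRing A] [HopfAlgebra k A]
  (R : Type w) [CommRing R] [Algebra k R]

/-- Group-like elements of `R ⊗ A` and algebra maps from the dual Hopf algebra to `R`. -/
theorem exists_alg {g : R ⊗[k] A} (hg : IsGroupLikeElem R g) :
    ∃ f : CartDual.D k A →ₐ[k] R, ∀ x, f x = Φ k A R g x :=
  ⟨AlgHom.ofLinearMap (Φ k A R g)
    (by rw [← counit_eq, hg.counit_eq_one])
    (by
      intro x y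
      rw [Φ_apply, ← mul'_map_pairR_comul, hg.comul_eq_tmul_self, mul'_map_pairR_tmul]
      rfl), fun _ => rfl⟩

theorem exists_groupLike [Module.Finite k A] [Module.Projective k A] (f : CartDual.D k A →ₐ[k] R) :
    ∃ g : R ⊗[k] A, IsGroupLikeElem R g ∧ ∀ x, f x = Φ k A R g x := by
  obtain ⟨g, hg⟩ := Φ_surjective k A R f.toLinearMap
  have hg' : ∀ x, Φ k A R g x = f x := fun x => congrArg (fun l => l x) hg
  refine ⟨g, ?_, fun x => (hg' x).symm⟩
  constructor
  · rw [counit_eq, hg', map_one]
  · apply tensorR_ext k A R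
    intro x y
    rw [mul'_map_pairR_comul, mul'_map_pairR_tmul, ← Φ_apply, ← Φ_apply, ← Φ_apply, hg', hg', hg', map_mul]

end

end K997.CartAlg
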